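import Mathlib.RingTheory.IsGaloisGroup.Basic
import Mathlib.RingTheory.DedekindDomain.IntegralClosure
import Mathlib.RingTheory.Invariant.Basic
import Mathlib.RingTheory.Filtration
import Mathlib.FieldTheory.PrimitiveElement
import Mathlib.FieldTheory.Galois.IsGaloisGroup
import Mathlib.LinearAlgebra.Lagrange
import Groth.Agent.H2.EllComplete

/-!
# Trivial inertia for a Galois extension of complete local normal domains
-/

set_option autoImplicit false
universe u

open Polynomial

namespace Groth.Agent.Lib.InertiaGalois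

variable (R S G : Type u) [CommRing R] [CommRing S] [IsDomain R] [IsDomain S]
  [Algebra R S] [FaithfulSMul R S] [Group G] [Finite G] [MulSemiringAction G S] [IsGaloisGroup G R S]

include G in
theorem finite [IsNoetherianRing R] [IsIntegrallyClosed R] [IsIntegrallyClosed S] : Module.Finite R S := by
  have : Algebra.IsIntegral R S := Algebra.IsInvariant.isIntegral R S G
  let := FractionRing.liftAlgebra R (FractionRing S)
  let := IsFractionRing.mulSemiringAction G S (FractionRing S)
  have : IsGaloisGroup G (FractionRing R) (FractionRing S) := IsGaloisGroup.toFractionRing G R S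
  have : FiniteDimensional (FractionRing R) (FractionRing S) :=
    IsGaloisGroup.finiteDimensional G (FractionRing R) (FractionRing S)
  have : IsGalois (FractionRing R) (FractionRing S) := IsGaloisGroup.isGalois G (FractionRing R) (FractionRing S)
  have : IsIntegralClosure S R (FractionRing S) := IsIntegralClosure.of_isIntegrallyClosed S R (FractionRing S)
  exact IsIntegralClosure.finite R (FractionRing R) (FractionRing S) S

variable {R S G}

/-- An element with pairwise distinguishable conjugates generates by interpolation. -/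
theorem exists_poly (θ : S) (hθ : ∀ g h : G, g ≠ h → IsUnit (g • θ - h • θ)) (s : S) :
    ∃ P : R[X], P.degree < Nat.card G ∧ aeval θ P = s := by
  classical
  have := Fintype.ofFinite G
  have : SMulCommClass G R S := IsGaloisGroup.commutes
  let u : G → G → S := fun g h => if hg : g ≠ h then ↑(hθ g h hg).unit⁻¹ else 0
  have hu : ∀ g h, g ≠ h → (g • θ - h • θ) * u g h = 1 := fun g h hg => by
    simp only [u, dif_pos hg]
    exact (hθ g h hg).mul_val_inv
  let B : G → S[X] := fun g => ∏ h ∈ Finset.univ.erase g, C (u g h) * (X - C (h • θ))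
  let P : S[X] := ∑ g : G, C (g • s) * B g
  have huσ : ∀ σ g h, σ • u g h = u (σ * g) (σ * h) := fun σ g h => by
    rcases eq_or_ne g h with rfl | hgh
    · simp [u]
    · have h1 := congrArg (σ • ·) (hu g h hgh)
      simp only [smul_mul', smul_sub, smul_one, ← mul_smul] at h1
      have h2 := hu (σ * g) (σ * h) (fun e => hgh (mul_left_cancel e))
      exact mul_left_cancel₀ (left_ne_zero_of_mul_eq_one h2) (h1.trans h2.symm)
  have hPσ : ∀ σ : G, σ • P = P := fun σ => by
    simp only [P, B, Finset.smul_sum, smul_mul', Finset.smul_prod', smul_sub, Polynomial.smul_X,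
      Polynomial.smul_C, huσ, ← mul_smul]
    refine Fintype.sum_equiv (Equiv.mulLeft σ) _ _ fun g => ?_
    congr 1
    refine Finset.prod_equiv (Equiv.mulLeft σ) (fun h => ?_) fun h _ => rfl
    simp
  have hdeg : P.degree < Nat.card G := by
    refine (degree_sum_le _ _).trans_lt ((Finset.sup_lt_iff (WithBot.bot_lt_coe _)).2 fun g _ => ?_)
    refine (degree_mul_le _ _).trans_lt ?_
    refine lt_of_le_of_lt (add_le_add degree_C_le ((degree_prod_le _ _).trans
      (Finset.sum_le_card_nsmul _ _ (1 : WithBot ℕ) fun h _ => (degree_mul_le _ _).trans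
        (add_le_add degree_C_le (degree_X_sub_C_le _))))) ?_
    rw [zero_add, Finset.card_erase_of_mem (Finset.mem_univ g), Nat.card_eq_fintype_card, nsmul_one]
    exact_mod_cast Nat.sub_lt Fintype.card_pos one_pos
  have heval : P.eval θ = s := by
    simp only [P, eval_finset_sum]
    rw [Finset.sum_eq_single_of_mem (1 : G) (Finset.mem_univ _) fun g _ hg => ?_]
    · simp only [B, eval_mul, eval_C, eval_prod, eval_sub, eval_X, one_smul]
      rw [Finset.prod_eq_one fun h hh => ?_, mul_one]
      have := hu 1 h (Ne.symm (Finset.ne_of_mem_erase hh))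
      rwa [one_smul, mul_comm] at this
    · simp only [B, eval_mul, eval_prod]
      rw [Finset.prod_eq_zero (Finset.mem_erase.2 ⟨Ne.symm hg, Finset.mem_univ (1 : G)⟩) (by simp), mul_zero]
  have hlift : P ∈ lifts (algebraMap R S) := (lifts_iff_coeff_lifts P).2 fun n =>
    Algebra.IsInvariant.isInvariant (A := R) (G := G) (P.coeff n) fun σ => by rw [← Polynomial.coeff_smul σ P n, hPσ σ]
  obtain ⟨Q, hQ, hQd⟩ := mem_lifts_and_degree_eq hlift
  exact ⟨Q, hQd ▸ hdeg, by rw [← heval, ← hQ, eval_map, aeval_def]⟩

/-- An element separating the points of a faithful finite group action on a field. -/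
theorem exists_separating {L H : Type*} [Field L] [Group H] [Finite H] [MulSemiringAction H L]
    [FaithfulSMul H L] : ∃ x : L, ∀ g : H, g • x = x → g = 1 := by
  have : IsGalois (FixedPoints.subfield H L) L := inferInstance
  obtain ⟨x, hx⟩ := Field.exists_primitive_element (FixedPoints.subfield H L) L
  refine ⟨x, fun g hg => eq_of_smul_eq_smul (α := L) fun y => ?_⟩
  rw [one_smul]
  have hfix : (MulSemiringAction.toAlgHom (FixedPoints.subfield H L) L g) = AlgHom.id _ L := by
    apply AlgHom.ext_of_adjoin_eq_top (s := {x})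
    · rw [← IntermediateField.adjoin_simple_toSubalgebra_of_isAlgebraic
        (Algebra.IsAlgebraic.isAlgebraic x), hx, IntermediateField.top_toSubalgebra]
    · intro z hz
      rw [Set.mem_singleton_iff.1 hz]
      exact hg
  exact DFunLike.congr_fun hfix y

/-- Trivial inertia gives an unramified extension. -/
theorem of_inertia_eq_bot [IsLocalRing R] [IsLocalRing S] (n : Ideal S) [n.IsMaximal]
    [n.LiesOver (IsLocalRing.maximalIdeal R)] (hI : n.toAddSubgroup.inertia G = ⊥) :
    (IsLocalRing.maximalIdeal R).map (algebraMap R S) = n ∧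
      Algebra.IsSeparable (R ⧸ IsLocalRing.maximalIdeal R) (S ⧸ n) := by
  classical
  have := Fintype.ofFinite G
  have : SMulCommClass G R S := IsGaloisGroup.commutes
  let m := IsLocalRing.maximalIdeal R
  let := Ideal.Quotient.field n
  let := Ideal.Quotient.field m
  have hgn : ∀ (g : G) (x : S), x ∈ n → g • x ∈ n := fun g x hx => by
    rw [IsLocalRing.eq_maximalIdeal ‹n.IsMaximal›] at hx ⊢
    intro h
    exact hx (by simpa using h.map (MulSemiringAction.toRingHom G S g⁻¹))
  let act : G →* RingAut (S ⧸ n) :=
    { toFun := fun g => Ideal.quotientEquiv n n (MulSemiringAction.toRingEquiv G S g) (by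
        refine le_antisymm (fun x hx => ?_) (Ideal.map_le_iff_le_comap.2 fun x hx => hgn g x hx)
        have : x = g • (g⁻¹ • x) := (smul_inv_smul g x).symm
        rw [this]
        exact Ideal.mem_map_of_mem (MulSemiringAction.toRingEquiv G S g).toRingHom (hgn g⁻¹ x hx))
      map_one' := RingEquiv.ext fun x => by
        obtain ⟨y, rfl⟩ := Ideal.Quotient.mk_surjective x
        show Ideal.Quotient.mk n ((1 : G) • y) = _
        rw [one_smul]; rfl
      map_mul' := fun g h => RingEquiv.ext fun x => by
        obtain ⟨y, rfl⟩ := Ideal.Quotient.mk_surjective x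
        show Ideal.Quotient.mk n ((g * h) • y) = Ideal.Quotient.mk n (g • h • y)
        rw [mul_smul] }
  let := MulSemiringAction.compHom (S ⧸ n) act
  have hact : ∀ (g : G) (y : S), g • (Ideal.Quotient.mk n y) = Ideal.Quotient.mk n (g • y) := fun _ _ => rfl
  have : FaithfulSMul G (S ⧸ n) := ⟨fun {g h} e => by
    have hmem : h⁻¹ * g ∈ n.toAddSubgroup.inertia G := fun x => by
      show (h⁻¹ * g) • x - x ∈ n
      rw [← Ideal.Quotient.eq_zero_iff_mem, map_sub, ← hact, mul_smul, e, inv_smul_smul, sub_self]
    rw [hI, Subgroup.mem_bot, inv_mul_eq_one] at hmem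
    exact hmem.symm⟩
  obtain ⟨x, hx⟩ := exists_separating (L := S ⧸ n) (H := G)
  obtain ⟨θ, rfl⟩ := Ideal.Quotient.mk_surjective x
  have hinj : Function.Injective fun g : G => Ideal.Quotient.mk n (g • θ) := fun g h e => by
    simp only [← hact] at e
    have := hx (h⁻¹ * g) (by rw [mul_smul, e, inv_smul_smul])
    exact (inv_mul_eq_one.1 this).symm
  have hunit : ∀ g h : G, g ≠ h → IsUnit (g • θ - h • θ) := fun g h hgh => by
    by_contra hc
    have : g • θ - h • θ ∈ n := by rwa [IsLocalRing.eq_maximalIdeal ‹n.IsMaximal›]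
    exact hgh (hinj ((Ideal.Quotient.eq).2 this))
  have hfix : ∀ (g : G) (r : R ⧸ m), g • algebraMap (R ⧸ m) (S ⧸ n) r = algebraMap (R ⧸ m) (S ⧸ n) r := by
    intro g r
    obtain ⟨r, rfl⟩ := Ideal.Quotient.mk_surjective r
    show g • Ideal.Quotient.mk n (algebraMap R S r) = Ideal.Quotient.mk n (algebraMap R S r)
    rw [hact, smul_algebraMap]
  have haeval : ∀ (P : R[X]) (g : G),
      Ideal.Quotient.mk n (g • aeval θ P) = aeval (Ideal.Quotient.mk n (g • θ)) (P.map (Ideal.Quotient.mk m)) := by
    intro P g
    have h1 : g • aeval θ P = aeval (g • θ) P :=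
      (aeval_algHom_apply (MulSemiringAction.toAlgHom R S g) θ P).symm
    rw [h1, aeval_def (x := Ideal.Quotient.mk n (g • θ)), eval₂_map, aeval_def, hom_eval₂]
    rfl
  constructor
  · refine le_antisymm (Ideal.map_le_iff_le_comap.2 (Ideal.LiesOver.over (P := n) (p := m)).le) fun s hs => ?_
    obtain ⟨P, hPd, rfl⟩ := exists_poly (R := R) θ hunit s
    have hP0 : P.map (Ideal.Quotient.mk m) = 0 := by
      refine (Polynomial.map_eq_zero_iff (algebraMap (R ⧸ m) (S ⧸ n)).injective).1 ?_
      refine Polynomial.eq_zero_of_natDegree_lt_card_of_eval_eq_zero _ hinj (fun g => ?_) ?_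
      · rw [eval_map, ← aeval_def, ← haeval, Ideal.Quotient.eq_zero_iff_mem]
        exact hgn g _ hs
      · rw [← Nat.card_eq_fintype_card]
        rcases eq_or_ne P 0 with rfl | hP
        · simpa using Nat.card_pos (α := G)
        · exact lt_of_le_of_lt ((natDegree_map_le).trans natDegree_map_le) ((natDegree_lt_iff_degree_lt hP).2 hPd)
    rw [aeval_eq_sum_range]
    refine Ideal.sum_mem _ fun i _ => ?_
    rw [Algebra.smul_def]
    refine Ideal.mul_mem_right _ _ (Ideal.mem_map_of_mem _ (Ideal.Quotient.eq_zero_iff_mem.1 ?_))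
    rw [← coeff_map, hP0, coeff_zero]
  · refine ⟨fun y => ?_⟩
    obtain ⟨s, rfl⟩ := Ideal.Quotient.mk_surjective y
    obtain ⟨P, -, rfl⟩ := exists_poly (R := R) θ hunit s
    have hθsep : IsSeparable (R ⧸ m) (Ideal.Quotient.mk n θ) := by
      obtain ⟨F, hF, hFd, hFm⟩ := lifts_and_degree_eq_and_monic
        (Algebra.IsInvariant.charpoly_mem_lifts R S G θ) (MulSemiringAction.monic_charpoly G θ)
      have hF' : (F.map (Ideal.Quotient.mk m)).map (algebraMap (R ⧸ m) (S ⧸ n)) =
          ∏ g : G, (X - C (Ideal.Quotient.mk n (g • θ))) := by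
        rw [Polynomial.map_map, show (algebraMap (R ⧸ m) (S ⧸ n)).comp (Ideal.Quotient.mk m) =
          (Ideal.Quotient.mk n).comp (algebraMap R S) from rfl, ← Polynomial.map_map, hF,
          MulSemiringAction.charpoly, Polynomial.map_prod]
        simp
      refine Polynomial.Separable.of_dvd ?_ (minpoly.dvd (R ⧸ m) _ (p := F.map (Ideal.Quotient.mk m)) ?_)
      · rw [← separable_map (algebraMap (R ⧸ m) (S ⧸ n)), hF']
        exact separable_prod_X_sub_C_iff.2 hinj
      · rw [aeval_def, ← eval_map, hF', eval_prod]
        exact Finset.prod_eq_zero (Finset.mem_univ 1) (by simp)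
    have h := haeval P 1
    rw [one_smul, one_smul] at h
    rw [h]
    have := IntermediateField.isSeparable_adjoin_simple_iff_isSeparable (R ⧸ m) (S ⧸ n) |>.2 hθsep
    exact IntermediateField.isSeparable_of_mem_isSeparable (R ⧸ m) (S ⧸ n)
      (IntermediateField.algebra_adjoin_le_adjoin _ _ (aeval_mem_adjoin_singleton _ _))

/-- An unramified extension has trivial inertia. -/
theorem inertia_eq_bot [IsLocalRing R] [IsNoetherianRing S] (n : Ideal S) [n.IsMaximal]
    [n.LiesOver (IsLocalRing.maximalIdeal R)] (hmn : (IsLocalRing.maximalIdeal R).map (algebraMap R S) = n)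
    [Algebra.IsSeparable (R ⧸ IsLocalRing.maximalIdeal R) (S ⧸ n)] :
    n.toAddSubgroup.inertia G = ⊥ := by
  have : SMulCommClass G R S := IsGaloisGroup.commutes
  have : FaithfulSMul G S := IsGaloisGroup.faithful R
  let m := IsLocalRing.maximalIdeal R
  rw [Subgroup.eq_bot_iff_forall]
  intro g hg
  let δ : S → S := fun x => g • x - x
  have key : ∀ k, ∀ x, δ x ∈ n ^ (k + 1) := by
    intro k
    induction k with
    | zero => intro x; rw [pow_one]; exact hg x
    | succ k ih =>
      have hn : ∀ x ∈ n, δ x ∈ n ^ (k + 2) := by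
        intro x hx
        rw [← hmn, Ideal.map] at hx
        induction hx using Submodule.span_induction with
        | mem y hy => obtain ⟨r, hr, rfl⟩ := hy; simp [δ, smul_algebraMap]
        | zero => simp [δ]
        | add a b _ _ ha hb =>
          rw [show δ (a + b) = δ a + δ b by simp [δ, smul_add]; abel]
          exact add_mem ha hb
        | smul a b hb ih' =>
          have hb' : b ∈ n := by rw [← hmn]; exact hb
          rw [smul_eq_mul, show δ (a * b) = δ a * b + (g • a) * δ b by simp only [δ, smul_mul']; ring]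
          refine add_mem ?_ (Ideal.mul_mem_left _ _ ih')
          rw [pow_succ (n := k + 1)]
          exact Ideal.mul_mem_mul (ih a) hb'
      intro s
      let := Ideal.Quotient.field n
      let := Ideal.Quotient.field m
      have hsep := Algebra.IsSeparable.isSeparable (R ⧸ m) (Ideal.Quotient.mk n s)
      obtain ⟨p, hp⟩ := map_surjective (Ideal.Quotient.mk m) Ideal.Quotient.mk_surjective
        (minpoly (R ⧸ m) (Ideal.Quotient.mk n s))
      have hmk : ∀ q : R[X], Ideal.Quotient.mk n (aeval s q) =
          aeval (Ideal.Quotient.mk n s) (q.map (Ideal.Quotient.mk m)) := fun q => by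
        rw [aeval_def (x := Ideal.Quotient.mk n s), eval₂_map, aeval_def, hom_eval₂]; rfl
      have h0 : aeval s p ∈ n := by
        rw [← Ideal.Quotient.eq_zero_iff_mem, hmk, hp, minpoly.aeval]
      have h1 : aeval s p.derivative ∉ n := fun h => by
        rw [← Ideal.Quotient.eq_zero_iff_mem, hmk, ← derivative_map, hp] at h
        exact hsep.aeval_derivative_ne_zero (minpoly.aeval _ _) h
      have h2 := hn _ h0
      have h3 : g • aeval s p = aeval (g • s) p :=
        (aeval_algHom_apply (MulSemiringAction.toAlgHom R S g) s p).symm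
      obtain ⟨c, hc⟩ := (p.map (algebraMap R S)).binomExpansion s (δ s)
      have h4 : δ (aeval s p) = aeval s p.derivative * δ s + c * δ s ^ 2 := by
        simp only [δ, h3]
        simp only [derivative_map, eval_map, ← aeval_def, δ, add_sub_cancel] at hc
        rw [hc]; ring
      have h5 : δ s ^ 2 ∈ n ^ (k + 2) := by
        refine Ideal.pow_le_pow_right (by lia : k + 2 ≤ (k + 1) + (k + 1)) ?_
        rw [pow_two, pow_add]
        exact Ideal.mul_mem_mul (ih s) (ih s)
      have h6 : aeval s p.derivative * δ s ∈ n ^ (k + 2) := by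
        rw [eq_sub_of_add_eq h4.symm]
        exact sub_mem h2 (Ideal.mul_mem_left _ _ h5)
      obtain ⟨a, i, hi, hai⟩ := Ideal.IsMaximal.exists_inv ‹n.IsMaximal› h1
      rw [show δ s = a * (aeval s p.derivative * δ s) + δ s * i by linear_combination -(δ s) * hai]
      refine add_mem (Ideal.mul_mem_left _ _ h6) ?_
      rw [pow_succ (n := k + 1)]
      exact Ideal.mul_mem_mul (ih s) hi
  refine eq_of_smul_eq_smul (α := S) fun x => ?_
  rw [one_smul, ← sub_eq_zero, ← Ideal.mem_bot, ← Ideal.iInf_pow_eq_bot_of_isDomain n ‹n.IsMaximal›.ne_top,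
    Submodule.mem_iInf]
  intro k
  exact Ideal.pow_le_pow_right (Nat.le_succ k) (key k x)

end Groth.Agent.Lib.InertiaGalois
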